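import Mathlib
import Groth.Prelude.Def_Coh
import Groth.Agent.Lib.Helper1.CohAbel
import Groth.Agent.Lib.Helper1.Dv28
import Groth.Agent.Lib.Helper5.ProperPush.CohExt
import Groth.Agent.Lib.Helper5.Perf.LocalCoh

/-!
# Coherent modules on a locally Noetherian scheme form an abelian subcategory (helper5)
-/
set_option autoImplicit false
set_option linter.style.haveILetI false
set_option linter.unusedSectionVars false
universe u
open CategoryTheory CategoryTheory.Limits AlgebraicGeometry TopologicalSpace Opposite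
open scoped ZeroObject

namespace Groth.Agent.Lib.Helper5.CohLoc

variable (X : Scheme.{u})

/-- the property of being coherent -/
abbrev cohP : ObjectProperty X.Modules := fun M : X.Modules => Coh.IsCoh M

theorem cohP_isClosedUnderIsomorphisms : (cohP X).IsClosedUnderIsomorphisms where
  of_iso e h := Groth.Agent.Lib.Helper5.LocalCoh.isCoh_of_iso e h

theorem cohP_containsZero : (cohP X).ContainsZero where
  exists_zero := ⟨0, isZero_zero _,
    Groth.Agent.Lib.Helper5.CohExt.isCoh_of_isZero _ (isZero_zero _)⟩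

variable [IsLocallyNoetherian X]

theorem cohP_isClosedUnderKernels : (cohP X).IsClosedUnderKernels where
  kernels_le := by
    rintro _ ⟨f, k, hk, hX, hY⟩
    exact Groth.Agent.Lib.Helper5.LocalCoh.isCoh_of_iso
      (IsLimit.conePointUniqueUpToIso (kernelIsKernel f) hk)
      (Groth.Agent.Helper1.FtLocal.isCoh_kernel hX hY f)

theorem cohP_isClosedUnderCokernels : (cohP X).IsClosedUnderCokernels where
  cokernels_le := by
    rintro _ ⟨f, k, hk, hX, hY⟩
    exact Groth.Agent.Lib.Helper5.LocalCoh.isCoh_of_iso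
      (IsColimit.coconePointUniqueUpToIso (cokernelIsCokernel f) hk)
      (Groth.Agent.Helper1.FtLocal.isCoh_cokernel hX hY f)

theorem isCoh_biprod {F G : X.Modules} (hF : Coh.IsCoh F) (hG : Coh.IsCoh G) :
    Coh.IsCoh (F ⊞ G) :=
  Groth.Agent.Helper1.Dv.isCoh_mid (ShortComplex.Splitting.ofHasBinaryBiproduct F G).shortExact
    hF hG

theorem cohP_isClosedUnderBinaryProducts : (cohP X).IsClosedUnderBinaryProducts where
  limitsOfShape_le := by
    rintro M ⟨h⟩
    have h1 : Coh.IsCoh (h.diag.obj ⟨WalkingPair.left⟩) := h.prop_diag_obj _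
    have h2 : Coh.IsCoh (h.diag.obj ⟨WalkingPair.right⟩) := h.prop_diag_obj _
    let e : M ≅ h.diag.obj ⟨WalkingPair.left⟩ ⨯ h.diag.obj ⟨WalkingPair.right⟩ :=
      IsLimit.conePointUniqueUpToIso h.isLimit (limit.isLimit _) ≪≫
        HasLimit.isoOfNatIso (diagramIsoPair h.diag)
    exact Groth.Agent.Lib.Helper5.LocalCoh.isCoh_of_iso
      ((biprod.isoProd _ _) ≪≫ e.symm) (isCoh_biprod X h1 h2)

theorem cohP_isClosedUnderFiniteProducts : (cohP X).IsClosedUnderFiniteProducts := by
  haveI := cohP_isClosedUnderIsomorphisms X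
  haveI := cohP_containsZero X
  haveI := cohP_isClosedUnderBinaryProducts X
  exact ObjectProperty.IsClosedUnderFiniteProducts.mk'

end Groth.Agent.Lib.Helper5.CohLoc
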