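import Mathlib
import Groth.Prelude.Def_Coh
import Groth.Prelude.Def_CohB1
import Groth.Prelude.Def_CxOX
import Groth.Agent.Lib.Helper5.CohLoc.Recog
import Groth.Agent.Lib.Helper5.CohLoc.CohAb
import Groth.Agent.Lib.Helper1.SubExt9
import Groth.Agent.Lib.Helper1.PushQc
import Groth.Agent.Lib.Helper5.Stalk.RpushSupp

/-!
# Restriction to an open induces `Coh(X)/Coh_Z(X) ≃ Coh(U)` on a Noetherian scheme (helper5)
-/
set_option autoImplicit false
set_option linter.style.haveILetI false
set_option linter.unusedSectionVars false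
set_option linter.unusedVariables false
universe u
open CategoryTheory CategoryTheory.Limits AlgebraicGeometry TopologicalSpace Opposite
open scoped ZeroObject

namespace Groth.Agent.Lib.Helper5.CohLoc

open Groth.Agent.Lib.Helper5.RpushSupp

variable (X : Scheme.{u}) [IsNoetherian X] (U : X.Opens)

attribute [local instance] cohP_isClosedUnderIsomorphisms cohP_containsZero
  cohP_isClosedUnderKernels cohP_isClosedUnderCokernels cohP_isClosedUnderFiniteProducts

noncomputable example : Abelian (cohP X).FullSubcategory := inferInstance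

instance preservesFiniteLimits_ι : PreservesFiniteLimits (cohP X).ι := by
  haveI : ∀ {A B : (cohP X).FullSubcategory} (f : A ⟶ B),
      PreservesLimit (parallelPair f 0) (cohP X).ι := fun f => (cohP X).preservesKernels_ι f
  exact Functor.preservesFiniteLimits_of_preservesKernels _

instance preservesFiniteColimits_ι : PreservesFiniteColimits (cohP X).ι := by
  haveI : ∀ {A B : (cohP X).FullSubcategory} (f : A ⟶ B),
      PreservesColimit (parallelPair f 0) (cohP X).ι := fun f => (cohP X).preservesCokernels_ι f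
  exact Functor.preservesFiniteColimits_of_preservesCokernels _

/-- the exact functor `Coh(X) ⥤ Mod(O_U)` -/
noncomputable abbrev GU : (cohP X).FullSubcategory ⥤ (U : Scheme.{u}).Modules :=
  (cohP X).ι ⋙ Scheme.Modules.restrictFunctor U.ι

variable {X}

/-- a module is supported off `U` iff its restriction to `U` vanishes -/
theorem support_subset_compl_iff (K : X.Modules) :
    CohB1.support K ⊆ (↑U : Set X)ᶜ ↔
      IsZero ((Scheme.Modules.restrictFunctor U.ι).obj K) := by
  constructor
  · intro h
    apply isZero_restrict_of_stalks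
    intro x hx
    by_contra hns
    exact h hns hx
  · intro h x hx hxU
    exact hx (subsingleton_stalk_of_isZero_restrict K U h x hxU)

/-- the class of morphisms of the statement, in terms of the restriction -/
theorem ker_coker_support_iff {M N : X.Modules} (φ : M ⟶ N) :
    (CohB1.support (kernel φ) ⊆ (↑U : Set X)ᶜ ∧ CohB1.support (cokernel φ) ⊆ (↑U : Set X)ᶜ) ↔
      IsIso ((Scheme.Modules.restrictFunctor U.ι).map φ) := by
  rw [support_subset_compl_iff, support_subset_compl_iff]
  have e1 : IsZero ((Scheme.Modules.restrictFunctor U.ι).obj (kernel φ)) ↔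
      IsZero (kernel ((Scheme.Modules.restrictFunctor U.ι).map φ)) :=
    (PreservesKernel.iso (Scheme.Modules.restrictFunctor U.ι) φ).isZero_iff
  have e2 : IsZero ((Scheme.Modules.restrictFunctor U.ι).obj (cokernel φ)) ↔
      IsZero (cokernel ((Scheme.Modules.restrictFunctor U.ι).map φ)) :=
    (PreservesCokernel.iso (Scheme.Modules.restrictFunctor U.ι) φ).isZero_iff
  rw [e1, e2]
  constructor
  · rintro ⟨h1, h2⟩
    haveI : Mono ((Scheme.Modules.restrictFunctor U.ι).map φ) :=
      Preadditive.mono_of_isZero_kernel _ h1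
    haveI : Epi ((Scheme.Modules.restrictFunctor U.ι).map φ) :=
      Preadditive.epi_of_isZero_cokernel _ h2
    exact isIso_of_mono_of_epi _
  · intro h
    exact ⟨isZero_kernel_of_mono _, isZero_cokernel_of_epi _⟩

theorem isIso_cokernel_π_of_eq_zero {A : Type*} [Category A] [HasZeroMorphisms A] {M N : A}
    (g : M ⟶ N) [HasCokernel g] (h : g = 0) : IsIso (cokernel.π g) := by
  subst h
  infer_instance

variable (X)

/-- the Serre class of coherent modules supported off `U` -/
noncomputable abbrev PU : ObjectProperty (cohP X).FullSubcategory := (GU X U).kernel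

theorem isoModSerre_iff {A B : (cohP X).FullSubcategory} (f : A ⟶ B) :
    (PU X U).isoModSerre f ↔ IsIso ((GU X U).map f) := by
  rw [Abelian.isoModSerre_kernel_eq_inverseImage_isomorphisms (GU X U)]
  rfl

theorem W_eq : (fun (A B : (cohP X).FullSubcategory) (f : A ⟶ B) =>
      CohB1.support (kernel f.hom) ⊆ (↑U : Set X)ᶜ ∧
        CohB1.support (cokernel f.hom) ⊆ (↑U : Set X)ᶜ) = (PU X U).isoModSerre := by
  apply MorphismProperty.ext
  intro A B f
  rw [isoModSerre_iff]
  exact ker_coker_support_iff U f.hom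

variable (hres : ∀ M : X.Modules, Coh.IsCoh M →
  Coh.IsCoh ((Scheme.Modules.restrictFunctor U.ι).obj M))

/-- the restriction functor `Coh(X) ⥤ Coh(U)` -/
noncomputable abbrev LU : (cohP X).FullSubcategory ⥤ (cohP (U : Scheme.{u})).FullSubcategory :=
  ObjectProperty.lift (cohP (U : Scheme.{u})) (GU X U) (fun M => hres M.obj M.property)

theorem essSurj_LU : (LU X U hres).EssSurj := by
  refine ⟨fun N => ?_⟩
  haveI : N.obj.IsQuasicoherent := N.property.1
  haveI : ((Scheme.Modules.pushforward U.ι).obj N.obj).IsQuasicoherent :=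
    Groth.Agent.Helper1.PushQc.isQuasicoherent_pushforward U.ι N.obj
  let i : N.obj ⟶ ((Scheme.Modules.pushforward U.ι).obj N.obj).restrict U.ι :=
    inv ((Scheme.Modules.restrictAdjunction U.ι).counit.app N.obj)
  haveI : Mono i := inferInstance
  have hX : ∀ x : X, ∃ V : X.Opens, x ∈ V ∧ NoetherianSpace (V : Set X) :=
    fun x => ⟨⊤, trivial, inferInstance⟩
  obtain ⟨G', i', e, hmono, hq, hft, he⟩ :=
    Groth.Agent.Helper1.SubSh.exists_extension_cat_noeth hX U N.obj i N.property.2
  exact ⟨⟨G', ⟨hq, hft⟩⟩, ⟨ObjectProperty.isoMk _ e⟩⟩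

theorem exists_fraction {A B : (cohP X).FullSubcategory}
    (ψ : (LU X U hres).obj A ⟶ (LU X U hres).obj B) :
    ∃ (X' : (cohP X).FullSubcategory) (s : X' ⟶ A) (_ : IsIso ((GU X U).map s)) (f : X' ⟶ B),
      (LU X U hres).map s ≫ ψ = (LU X U hres).map f := by
  have hAB : Coh.IsCoh (A.obj ⊞ B.obj) := isCoh_biprod X A.property B.property
  haveI : (A.obj ⊞ B.obj).IsQuasicoherent := hAB.1
  have hrA : Coh.IsCoh ((Scheme.Modules.restrictFunctor U.ι).obj A.obj) := hres _ A.property
  haveI : ((Scheme.Modules.restrictFunctor U.ι).obj A.obj).IsQuasicoherent := hrA.1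
  let ψ' : (Scheme.Modules.restrictFunctor U.ι).obj A.obj ⟶
      (Scheme.Modules.restrictFunctor U.ι).obj B.obj := ψ.hom
  let i : (Scheme.Modules.restrictFunctor U.ι).obj A.obj ⟶ (A.obj ⊞ B.obj).restrict U.ι :=
    (Scheme.Modules.restrictFunctor U.ι).map biprod.inl +
      ψ' ≫ (Scheme.Modules.restrictFunctor U.ι).map biprod.inr
  have hi1 : i ≫ (Scheme.Modules.restrictFunctor U.ι).map biprod.fst = 𝟙 _ := by
    dsimp only [i]
    rw [Preadditive.add_comp, Category.assoc, ← Functor.map_comp, ← Functor.map_comp,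
      biprod.inl_fst, biprod.inr_fst, CategoryTheory.Functor.map_id, Functor.map_zero,
      comp_zero, add_zero]
  have hi2 : i ≫ (Scheme.Modules.restrictFunctor U.ι).map biprod.snd = ψ' := by
    dsimp only [i]
    rw [Preadditive.add_comp, Category.assoc, ← Functor.map_comp, ← Functor.map_comp,
      biprod.inl_snd, biprod.inr_snd, CategoryTheory.Functor.map_id, Functor.map_zero,
      Category.comp_id, zero_add]
  haveI : Mono i := mono_of_mono_fac hi1
  have hX : ∀ x : X, ∃ V : X.Opens, x ∈ V ∧ NoetherianSpace (V : Set X) :=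
    fun x => ⟨⊤, trivial, inferInstance⟩
  obtain ⟨G', i', e, hmono, hq, hft, he⟩ :=
    Groth.Agent.Helper1.SubSh.exists_extension_cat_noeth hX U _ i hrA.2
  have hs : (Scheme.Modules.restrictFunctor U.ι).map (i' ≫ biprod.fst) = e.hom := by
    rw [Functor.map_comp, ← he, Category.assoc, hi1, Category.comp_id]
  have hf : (Scheme.Modules.restrictFunctor U.ι).map (i' ≫ biprod.snd) = e.hom ≫ ψ' := by
    rw [Functor.map_comp, ← he, Category.assoc, hi2]
  refine ⟨⟨G', ⟨hq, hft⟩⟩, ObjectProperty.homMk (i' ≫ biprod.fst), ?_,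
    ObjectProperty.homMk (i' ≫ biprod.snd), ?_⟩
  · change IsIso ((Scheme.Modules.restrictFunctor U.ι).map (i' ≫ biprod.fst))
    rw [hs]
    infer_instance
  · apply ObjectProperty.hom_ext
    change (Scheme.Modules.restrictFunctor U.ι).map (i' ≫ biprod.fst) ≫ ψ' =
      (Scheme.Modules.restrictFunctor U.ι).map (i' ≫ biprod.snd)
    rw [hs, hf]

/-- **restriction to `U` is a localization functor `Coh(X) ⥤ Coh(U)`** -/
theorem isLocalization_LU : (LU X U hres).IsLocalization (PU X U).isoModSerre := by
  haveI := essSurj_LU X U hres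
  refine isLocalization_of_fractions (LU X U hres) (PU X U).isoModSerre ?_ ?_ ?_
  · intro A B f hf
    rw [isoModSerre_iff] at hf
    rw [← ObjectProperty.isIso_hom_iff]
    exact hf
  · intro A B f₁ f₂ h
    have h1 : (GU X U).map f₁ = (GU X U).map f₂ :=
      congrArg (fun φ => (cohP (U : Scheme.{u})).ι.map φ) h
    have h2 : (GU X U).map (f₁ - f₂) = 0 := by
      rw [Functor.map_sub, h1, sub_self]
    refine ⟨cokernel (f₁ - f₂), cokernel.π (f₁ - f₂), ?_, ?_⟩
    · rw [isoModSerre_iff]
      have h4 : (GU X U).map (cokernel.π (f₁ - f₂)) =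
          cokernel.π ((GU X U).map (f₁ - f₂)) ≫
            (PreservesCokernel.iso (GU X U) (f₁ - f₂)).inv := by
        rw [PreservesCokernel.iso_inv, π_comp_cokernelComparison]
      haveI : IsIso (cokernel.π ((GU X U).map (f₁ - f₂))) :=
        isIso_cokernel_π_of_eq_zero _ h2
      rw [h4]
      infer_instance
    · have := cokernel.condition (f₁ - f₂)
      rw [Preadditive.sub_comp, sub_eq_zero] at this
      exact this
  · intro A B ψ
    obtain ⟨X', s, hs, f, hsf⟩ := exists_fraction X U hres ψ
    exact ⟨X', s, (isoModSerre_iff X U s).2 hs, f, hsf⟩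

/-- the statement in the form of the milestone -/
theorem coh_localization :
    (ObjectProperty.lift (fun N : (↑U : Scheme.{u}).Modules => Coh.IsCoh N)
        (ObjectProperty.ι (fun M : X.Modules => Coh.IsCoh M) ⋙ Scheme.Modules.restrictFunctor U.ι)
        (fun M => hres M.obj M.property)).IsLocalization
      (fun (A B : ObjectProperty.FullSubcategory (fun M : X.Modules => Coh.IsCoh M)) (f : A ⟶ B) =>
        CohB1.support (kernel f.hom) ⊆ (↑U : Set X)ᶜ ∧
          CohB1.support (cokernel f.hom) ⊆ (↑U : Set X)ᶜ) := by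
  have h := isLocalization_LU X U hres
  rw [← W_eq X U] at h
  exact h

end Groth.Agent.Lib.Helper5.CohLoc
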